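import Groth.Agent.HyperTor.Periodic

/-!
Values at `g` of derivations of `B` annihilate `Tor` over `R = B/gB` above the flat dimension over `B`:
multiplication by such a value factors through a flat `R`-module.
-/

set_option autoImplicit false
set_option linter.style.haveILetI false
set_option backward.isDefEq.respectTransparency false

universe u

open CategoryTheory Limits
open scoped TensorProduct

attribute [local instance] HasDerivedCategory.standard

noncomputable section

namespace Groth.Agent.HyperTor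

/-- An endomorphism factoring through a flat module kills higher `Tor`. -/
theorem smul_id_eq_zero_of_factor {A : Type u} [CommRing A] {M Y : Type u} [AddCommGroup M] [Module A M]
    [AddCommGroup Y] [Module A Y] [Module.Flat A Y] (a : A) (j : M →ₗ[A] Y) (h : Y →ₗ[A] M)
    (hh : ∀ x, h (j x) = a • x) (N : ModuleCat.{u} A) (i : ℕ) :
    a • 𝟙 (((Tor (ModuleCat.{u} A) (i + 1)).obj (ModuleCat.of A M)).obj N) = 0 := by
  let F := (Tor (ModuleCat.{u} A) (i + 1)).flip.obj N
  have h0 : a • 𝟙 (ModuleCat.of A M) = ModuleCat.ofHom j ≫ ModuleCat.ofHom h :=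
    ModuleCat.hom_ext (LinearMap.ext fun x => (hh x).symm)
  calc a • 𝟙 (F.obj (ModuleCat.of A M)) = a • F.map (𝟙 (ModuleCat.of A M)) := by rw [F.map_id]
    _ = F.map (a • 𝟙 (ModuleCat.of A M)) := (TorBalance.tor_map_smul a _ N (i + 1)).symm
    _ = 0 := by
      rw [h0, F.map_comp,
        (TorBalance.isZero_flat (ModuleCat.of A Y) N i).eq_of_tgt (F.map (ModuleCat.ofHom j)) 0, zero_comp]

theorem smul_id_eq_zero_of_iso {A : Type u} [CommRing A] {X Y : ModuleCat.{u} A} (e : X ≅ Y) (a : A)
    (h : a • 𝟙 Y = 0) : a • 𝟙 X = 0 := by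
  rw [← e.hom_inv_id, ← Linear.smul_comp, show a • e.hom = e.hom ≫ (a • 𝟙 Y) by rw [Linear.comp_smul, Category.comp_id],
    h, comp_zero, zero_comp]

variable {B R : Type u} [CommRing B] [CommRing R] [Algebra B R] (g : B)

theorem smul_tor_eq_zero_one (hg : IsSMulRegular B g) (hsurj : Function.Surjective (algebraMap B R))
    (hker : RingHom.ker (algebraMap B R) = Ideal.span {g}) (δ : B →+ B)
    (hδ : ∀ a b, δ (a * b) = a * δ b + δ a * b)
    {M : Type u} [AddCommGroup M] [Module R M] [Module B M] [IsScalarTower B R M]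
    (hM : DRing.HasTorDimLE B 1 M) (N : ModuleCat.{u} R) (i : ℕ) :
    algebraMap B R (δ g) • 𝟙 (((Tor (ModuleCat.{u} R) (i + 1)).obj (ModuleCat.of R M)).obj N) = 0 := by
  have hgM : ∀ x : M, g • x = 0 := fun x => by
    rw [← algebraMap_smul R g x, algebraMap_g g hker, zero_smul]
  let π : (M →₀ B) →ₗ[B] M := Finsupp.linearCombination B id
  have hπ : Function.Surjective π := Finsupp.linearCombination_id_surjective B M
  haveI : Module.Flat B (LinearMap.ker π) :=
    (TorCI.torDimLE_zero_iff (R := B) ↥(LinearMap.ker π)).1 ((TorCI.torDimLE_succ_iff (R := B)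
      (K := ↥(LinearMap.ker π)) (F := M →₀ B) (M := M) (LinearMap.ker π).subtype π
      (Submodule.injective_subtype _) (LinearMap.exact_subtype_ker_map π) hπ 0).1 hM)
  have hgP : ∀ p : M →₀ B, g • p ∈ LinearMap.ker π := fun p => by rw [LinearMap.mem_ker, map_smul, hgM]
  let DP : (M →₀ B) → (M →₀ B) := Finsupp.mapRange δ (map_zero δ)
  have hDP : ∀ (b : B) (p : M →₀ B), DP (b • p) = b • DP p + δ b • p := fun b p => by
    ext m; simp [DP, hδ]
  let h₀ : LinearMap.ker π →ₗ[B] M :=
    { toFun := fun q => π (DP q)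
      map_add' := fun q q' => by
        show π (DP ((q : M →₀ B) + q')) = _
        rw [show DP ((q : M →₀ B) + q') = DP q + DP q' from Finsupp.mapRange_add (map_add δ) _ _, map_add]
      map_smul' := fun b q => by
        show π (DP (b • (q : M →₀ B))) = b • π (DP q)
        rw [hDP, map_add, map_smul, map_smul, show π (q : M →₀ B) = 0 from q.2, smul_zero, add_zero] }
  let j₁ : (M →₀ B) →ₗ[B] R ⊗[B] LinearMap.ker π :=
    (TensorProduct.mk B R (LinearMap.ker π) 1) ∘ₗ ((g • LinearMap.id).codRestrict (LinearMap.ker π) hgP)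
  have hj₁ : LinearMap.ker π ≤ LinearMap.ker j₁ := by
    intro q hq
    exact (one_tmul_eq_zero_iff (X := ↥(LinearMap.ker π)) g hsurj hker _).2 ⟨⟨q, hq⟩, Subtype.ext rfl⟩
  let j₀ : M →ₗ[B] R ⊗[B] LinearMap.ker π :=
    Submodule.liftQ (LinearMap.ker π) j₁ hj₁ ∘ₗ (LinearMap.quotKerEquivOfSurjective π hπ).symm.toLinearMap
  refine smul_id_eq_zero_of_factor (algebraMap B R (δ g)) (j₀.extendScalarsOfSurjective hsurj)
    (h₀.liftBaseChange R) (fun x => ?_) N i
  obtain ⟨p, rfl⟩ := hπ x
  show h₀.liftBaseChange R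
    (Submodule.liftQ _ j₁ hj₁ ((LinearMap.quotKerEquivOfSurjective π hπ).symm (π p))) = _
  rw [show (LinearMap.quotKerEquivOfSurjective π hπ).symm (π p) = Submodule.Quotient.mk p from
    (LinearEquiv.symm_apply_eq _).2 rfl]
  show h₀.liftBaseChange R ((1 : R) ⊗ₜ[B] (⟨g • p, hgP p⟩ : LinearMap.ker π)) = _
  rw [LinearMap.liftBaseChange_tmul, one_smul, algebraMap_smul]
  show π (DP (g • p)) = _
  rw [hDP, map_add, map_smul, map_smul, hgM, zero_add]

/-- Values at `g` of derivations kill `Tor` above the flat dimension. -/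
theorem smul_tor_eq_zero (hg : IsSMulRegular B g) (hsurj : Function.Surjective (algebraMap B R))
    (hker : RingHom.ker (algebraMap B R) = Ideal.span {g}) (δ : B →+ B)
    (hδ : ∀ a b, δ (a * b) = a * δ b + δ a * b) (d : ℕ) :
    ∀ (M : Type u) [AddCommGroup M] [Module R M] [Module B M] [IsScalarTower B R M],
      DRing.HasTorDimLE B (d + 1) M → ∀ (N : ModuleCat.{u} R) (i : ℕ),
      algebraMap B R (δ g) • 𝟙 (((Tor (ModuleCat.{u} R) (d + i + 1)).obj (ModuleCat.of R M)).obj N) = 0 := by
  induction d with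
  | zero =>
    intro M _ _ _ _ hM N i
    rw [Nat.zero_add]
    exact smul_tor_eq_zero_one g hg hsurj hker δ hδ hM N i
  | succ d ih =>
    intro M _ _ _ _ hM N i
    let p : (M →₀ R) →ₗ[R] M := Finsupp.linearCombination R id
    have hp : Function.Surjective p := Finsupp.linearCombination_id_surjective R M
    have hex := LinearMap.exact_subtype_ker_map p
    have hK : DRing.HasTorDimLE B (d + 1) (LinearMap.ker p) :=
      torDimLE_left (R := B) ((LinearMap.ker p).subtype.restrictScalars B) (p.restrictScalars B)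
        (Submodule.injective_subtype _) hex hp (d + 1) (Nat.le_add_left 1 d) (torDimLE_finsupp g hg hsurj hker M) hM
    obtain ⟨a⟩ := nonempty_iso_shift (X := ↥(LinearMap.ker p)) (Y := M →₀ R) (Z := M) (LinearMap.ker p).subtype p
      (Submodule.injective_subtype _) hex hp N (d + i)
    rw [show d + 1 + i + 1 = d + i + 2 by omega]
    exact smul_id_eq_zero_of_iso a _ (ih (LinearMap.ker p) hK N i)

end Groth.Agent.HyperTor
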