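import Groth.Agent.TorBalance.LESFlip
import Groth.Agent.TorCI.TDBaseChange
import Mathlib

/-!
Periodicity of `Tor` over a hypersurface quotient `R = B/gB` for modules of finite flat dimension over `B`.
-/

set_option autoImplicit false
set_option linter.style.haveILetI false
set_option backward.isDefEq.respectTransparency false

universe u

open CategoryTheory Limits
open scoped TensorProduct

attribute [local instance] HasDerivedCategory.standard

noncomputable section

namespace Groth.Agent.HyperTor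

open Groth.Agent.DRingKP

/-- Dimension shifting along a short exact sequence with flat middle term. -/
theorem nonempty_iso_shift {A : Type u} [CommRing A] {X Y Z : Type u} [AddCommGroup X] [Module A X]
    [AddCommGroup Y] [Module A Y] [Module.Flat A Y] [AddCommGroup Z] [Module A Z] (f : X →ₗ[A] Y) (p : Y →ₗ[A] Z)
    (hf : Function.Injective f) (hex : Function.Exact f p) (hp : Function.Surjective p)
    (N : ModuleCat.{u} A) (i : ℕ) :
    Nonempty (((Tor (ModuleCat.{u} A) (i + 2)).obj (ModuleCat.of A Z)).obj N ≅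
      ((Tor (ModuleCat.{u} A) (i + 1)).obj (ModuleCat.of A X)).obj N) := by
  let S := ShortComplex.mk (ModuleCat.ofHom f) (ModuleCat.ofHom p) (ModuleCat.hom_ext hex.linearMap_comp_eq_zero)
  haveI : Mono (ModuleCat.ofHom f) := (ModuleCat.mono_iff_injective _).2 hf
  haveI : Epi (ModuleCat.ofHom p) := (ModuleCat.epi_iff_surjective _).2 hp
  have hS : S.ShortExact := { exact := (ShortComplex.ShortExact.moduleCat_exact_iff_function_exact S).2 hex }
  obtain ⟨δ, w₁, w₂, h₁, h₂⟩ := (TorBalance.exists_les_flip hS N (i + 1)).2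
  haveI : Mono δ := h₁.mono_g ((TorBalance.isZero_flat (ModuleCat.of A Y) N (i + 1)).eq_of_src _ _)
  haveI : Epi δ := h₂.epi_f ((TorBalance.isZero_flat (ModuleCat.of A Y) N i).eq_of_tgt _ _)
  haveI : IsIso δ := isIso_of_mono_of_epi δ
  exact ⟨asIso δ⟩

/-- The first term of a sequence whose middle term has flat dimension at most one. -/
theorem torDimLE_left {R : Type u} [CommRing R] {K F M : Type u} [AddCommGroup K] [Module R K]
    [AddCommGroup F] [Module R F] [AddCommGroup M] [Module R M] (i : K →ₗ[R] F) (p : F →ₗ[R] M)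
    (hi : Function.Injective i) (hex : Function.Exact i p) (hp : Function.Surjective p) (d : ℕ) (hd : 1 ≤ d)
    (hF : DRing.HasTorDimLE R 1 F) (hM : DRing.HasTorDimLE R (d + 1) M) : DRing.HasTorDimLE R d K := by
  let S := ShortComplex.mk (ModuleCat.ofHom i) (ModuleCat.ofHom p) (ModuleCat.hom_ext hex.linearMap_comp_eq_zero)
  haveI : Mono (ModuleCat.ofHom i) := (ModuleCat.mono_iff_injective _).2 hi
  haveI : Epi (ModuleCat.ofHom p) := (ModuleCat.epi_iff_surjective _).2 hp
  have hS : S.ShortExact := { exact := (ShortComplex.ShortExact.moduleCat_exact_iff_function_exact S).2 hex }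
  rw [hasTorDimLE_iff K d]
  have h1 := amp_obj₁ (a := -((d + 1 : ℕ) : ℤ)) (b := 0) _ hS.singleTriangle_distinguished
    (amp_widen (by push_cast; lia) (by lia) ((hasTorDimLE_iff F 1).1 hF)) ((hasTorDimLE_iff M (d + 1)).1 hM)
  rw [show -((d + 1 : ℕ) : ℤ) + 1 = -(d : ℤ) by push_cast; lia] at h1
  exact amp_shrink h1 (isAbove_single (ModuleCat.of R K) 0)

variable {B R : Type u} [CommRing B] [CommRing R] [Algebra B R] (g : B)

section

variable (hg : IsSMulRegular B g) (hsurj : Function.Surjective (algebraMap B R))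
  (hker : RingHom.ker (algebraMap B R) = Ideal.span {g})

include hsurj in
theorem exists_one_tmul {X : Type u} [AddCommGroup X] [Module B X] (z : R ⊗[B] X) :
    ∃ x : X, (1 : R) ⊗ₜ[B] x = z := by
  induction z with
  | zero => exact ⟨0, TensorProduct.tmul_zero _ _⟩
  | add p q hp hq =>
    obtain ⟨x, rfl⟩ := hp
    obtain ⟨y, rfl⟩ := hq
    exact ⟨x + y, TensorProduct.tmul_add _ _ _⟩
  | tmul r x =>
    obtain ⟨b, rfl⟩ := hsurj r
    exact ⟨b • x, by rw [← TensorProduct.smul_tmul, Algebra.algebraMap_eq_smul_one]⟩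

include hsurj hker in
theorem one_tmul_eq_zero_iff {X : Type u} [AddCommGroup X] [Module B X] (x : X) :
    (1 : R) ⊗ₜ[B] x = 0 ↔ ∃ y, g • y = x := by
  have hex : Function.Exact (LinearMap.lsmul B B g) (Algebra.linearMap B R) := by
    intro b
    show algebraMap B R b = 0 ↔ _
    rw [← RingHom.mem_ker, hker, Ideal.mem_span_singleton']
    exact ⟨fun ⟨a, ha⟩ => ⟨a, by simpa [mul_comm] using ha⟩, fun ⟨a, ha⟩ => ⟨a, by simpa [mul_comm] using ha⟩⟩
  have h1 := rTensor_exact X hex hsurj ((1 : B) ⊗ₜ[B] x)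
  rw [LinearMap.rTensor_tmul] at h1
  have e1 : Algebra.linearMap B R 1 = (1 : R) := map_one (algebraMap B R)
  rw [e1] at h1
  refine h1.trans ⟨fun ⟨z, hz⟩ => ⟨TensorProduct.lid B X z, ?_⟩, fun ⟨y, hy⟩ => ⟨(1 : B) ⊗ₜ y, ?_⟩⟩
  · have h2 : ∀ z : B ⊗[B] X, TensorProduct.lid B X ((LinearMap.lsmul B B g).rTensor X z) =
        g • TensorProduct.lid B X z := by
      intro z
      induction z with
      | zero => simp
      | tmul b y => simp [mul_smul]
      | add p q hp hq => simp [hp, hq]
    rw [← h2, hz]; simp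
  · rw [LinearMap.rTensor_tmul, ← hy, TensorProduct.tmul_smul, TensorProduct.smul_tmul']
    rfl

include hker in
theorem algebraMap_g : algebraMap B R g = 0 := by
  rw [← RingHom.mem_ker, hker]; exact Ideal.mem_span_singleton_self g

include hg hsurj hker in
theorem torDimLE_finsupp (ι : Type u) : DRing.HasTorDimLE B 1 (ι →₀ R) := by
  classical
  refine (TorCI.torDimLE_succ_iff (R := B) (g • (LinearMap.id : (ι →₀ B) →ₗ[B] (ι →₀ B)))
    (Finsupp.mapRange.linearMap (Algebra.linearMap B R)) ?_ ?_ ?_ 0).2 ((TorCI.torDimLE_zero_iff _).2 inferInstance)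
  · intro a b hab
    ext j
    have h := DFunLike.congr_fun hab j
    simp only [LinearMap.smul_apply, LinearMap.id_apply, Finsupp.smul_apply, smul_eq_mul] at h
    exact hg h
  · intro f
    constructor
    · intro hf
      have hdiv : ∀ j, ∃ y, g * y = f j := fun j => by
        have h0 : algebraMap B R (f j) = 0 := DFunLike.congr_fun hf j
        rw [← RingHom.mem_ker, hker, Ideal.mem_span_singleton'] at h0
        obtain ⟨a, ha⟩ := h0
        exact ⟨a, by rw [mul_comm]; exact ha⟩
      choose y hy using hdiv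
      refine ⟨Finsupp.onFinset f.support y fun j hj => ?_, ?_⟩
      · rw [Finsupp.mem_support_iff, ← hy]
        exact fun h0 => hj (hg (by simpa using h0))
      · ext j
        simp [hy]
    · rintro ⟨y, rfl⟩
      ext j
      show algebraMap B R (g * y j) = 0
      rw [map_mul, algebraMap_g g hker, zero_mul]
  · exact Finsupp.mapRange_surjective _ (map_zero _) hsurj

variable {M : Type u} [AddCommGroup M] [Module R M] [Module B M] [IsScalarTower B R M]

include hg hsurj hker in
theorem nonempty_iso_of_torDimLE_one (hM : DRing.HasTorDimLE B 1 M) (N : ModuleCat.{u} R) (i : ℕ) :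
    Nonempty (((Tor (ModuleCat.{u} R) (i + 3)).obj (ModuleCat.of R M)).obj N ≅
      ((Tor (ModuleCat.{u} R) (i + 1)).obj (ModuleCat.of R M)).obj N) := by
  have hgM : ∀ x : M, g • x = 0 := fun x => by
    rw [← algebraMap_smul R g x, algebraMap_g g hker, zero_smul]
  let π : (M →₀ B) →ₗ[B] M := Finsupp.linearCombination B id
  have hπ : Function.Surjective π := Finsupp.linearCombination_id_surjective B M
  haveI : Module.Flat B (LinearMap.ker π) :=
    (TorCI.torDimLE_zero_iff (R := B) ↥(LinearMap.ker π)).1 ((TorCI.torDimLE_succ_iff (R := B) (K := ↥(LinearMap.ker π))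
      (F := M →₀ B) (M := M) (LinearMap.ker π).subtype π
      (Submodule.injective_subtype _) (LinearMap.exact_subtype_ker_map π) hπ 0).1 hM)
  have hgP : ∀ p : M →₀ B, g • p ∈ LinearMap.ker π := fun p => by
    rw [LinearMap.mem_ker, map_smul, hgM]
  let j₁ : (M →₀ B) →ₗ[B] R ⊗[B] LinearMap.ker π :=
    (TensorProduct.mk B R (LinearMap.ker π) 1) ∘ₗ ((g • LinearMap.id).codRestrict (LinearMap.ker π) hgP)
  have hj₁ : LinearMap.ker π ≤ LinearMap.ker j₁ := by
    intro q hq
    exact (one_tmul_eq_zero_iff g hsurj hker _).2 ⟨⟨q, hq⟩, Subtype.ext rfl⟩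
  let j₀ : M →ₗ[B] R ⊗[B] LinearMap.ker π :=
    Submodule.liftQ (LinearMap.ker π) j₁ hj₁ ∘ₗ (LinearMap.quotKerEquivOfSurjective π hπ).symm.toLinearMap
  have hj₀ : ∀ p, j₀ (π p) = (1 : R) ⊗ₜ[B] (⟨g • p, hgP p⟩ : LinearMap.ker π) := by
    intro p
    show Submodule.liftQ _ j₁ hj₁ ((LinearMap.quotKerEquivOfSurjective π hπ).symm (π p)) = _
    rw [show (LinearMap.quotKerEquivOfSurjective π hπ).symm (π p) = Submodule.Quotient.mk p from
      (LinearEquiv.symm_apply_eq _).2 rfl]
    rfl
  let j : M →ₗ[R] R ⊗[B] LinearMap.ker π := j₀.extendScalarsOfSurjective hsurj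
  let f : R ⊗[B] LinearMap.ker π →ₗ[R] R ⊗[B] (M →₀ B) := (LinearMap.ker π).subtype.baseChange R
  let π' : R ⊗[B] (M →₀ B) →ₗ[R] M := π.liftBaseChange R
  have hπ' : ∀ p, π' ((1 : R) ⊗ₜ[B] p) = π p := fun p => by simp [π']
  have hj : Function.Injective j := by
    rw [injective_iff_map_eq_zero]
    intro x hx
    obtain ⟨p, rfl⟩ := hπ x
    obtain ⟨⟨q, hq⟩, hqp⟩ := (one_tmul_eq_zero_iff (X := ↥(LinearMap.ker π)) g hsurj hker _).1 ((hj₀ p).symm.trans hx)
    obtain rfl : q = p := by
      ext m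
      exact hg (DFunLike.congr_fun (congrArg Subtype.val hqp) m)
    exact hq
  have hjf : Function.Exact j f := by
    intro z
    obtain ⟨q, rfl⟩ := exists_one_tmul (X := ↥(LinearMap.ker π)) hsurj z
    have hfq : f ((1 : R) ⊗ₜ[B] q) = (1 : R) ⊗ₜ[B] (q : M →₀ B) := LinearMap.baseChange_tmul _ _ _
    rw [hfq, one_tmul_eq_zero_iff g hsurj hker]
    constructor
    · rintro ⟨p, hp⟩
      exact ⟨π p, (hj₀ p).trans (congrArg _ (Subtype.ext hp))⟩
    · rintro ⟨x, hx⟩
      obtain ⟨p, rfl⟩ := hπ x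
      obtain ⟨y, hy⟩ := (one_tmul_eq_zero_iff (X := ↥(LinearMap.ker π)) g hsurj hker (q - ⟨g • p, hgP p⟩)).1 (by
        exact ((TensorProduct.mk B R (LinearMap.ker π) 1).map_sub q _).trans
          (sub_eq_zero.2 (hx.symm.trans (hj₀ p))))
      refine ⟨y + p, ?_⟩
      rw [smul_add, ← Submodule.coe_smul, hy]
      exact sub_add_cancel (q : M →₀ B) (g • p)
  have hfπ : Function.Exact f π' := by
    intro z
    obtain ⟨p, rfl⟩ := exists_one_tmul hsurj z
    rw [hπ']
    constructor
    · intro hp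
      exact ⟨(1 : R) ⊗ₜ[B] (⟨p, hp⟩ : LinearMap.ker π), LinearMap.baseChange_tmul _ _ _⟩
    · rintro ⟨z, hz⟩
      obtain ⟨q, rfl⟩ := exists_one_tmul (X := ↥(LinearMap.ker π)) hsurj z
      rw [← hπ', ← hz, show f ((1 : R) ⊗ₜ[B] q) = (1 : R) ⊗ₜ[B] (q : M →₀ B) from LinearMap.baseChange_tmul _ _ _,
        hπ']
      exact q.2
  have h₁ : Function.Exact j f.rangeRestrict := fun z =>
    ⟨fun hz => (hjf z).1 (congrArg Subtype.val hz), fun hz => Subtype.ext ((hjf z).2 hz)⟩
  have h₂ : Function.Exact (LinearMap.range f).subtype π' := fun z => (hfπ z).trans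
    ⟨fun ⟨y, hy⟩ => ⟨⟨z, y, hy⟩, rfl⟩, fun ⟨y, hy⟩ => by obtain ⟨w, hw⟩ := y.2; exact ⟨w, hw.trans hy⟩⟩
  have hπ's : Function.Surjective π' := fun x => by
    obtain ⟨p, rfl⟩ := hπ x
    exact ⟨_, hπ' p⟩
  obtain ⟨e₂⟩ := nonempty_iso_shift (X := ↥(LinearMap.range f)) (LinearMap.range f).subtype π' (Submodule.injective_subtype _) h₂ hπ's N (i + 1)
  obtain ⟨e₁⟩ := nonempty_iso_shift (Y := R ⊗[B] ↥(LinearMap.ker π)) (Z := ↥(LinearMap.range f)) j f.rangeRestrict hj h₁ f.surjective_rangeRestrict N i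
  exact ⟨e₂ ≪≫ e₁⟩

end

/-- Periodicity of `Tor` over `B/gB` above the flat dimension over `B`. -/
theorem nonempty_iso (hg : IsSMulRegular B g) (hsurj : Function.Surjective (algebraMap B R))
    (hker : RingHom.ker (algebraMap B R) = Ideal.span {g}) (d : ℕ) :
    ∀ (M : Type u) [AddCommGroup M] [Module R M] [Module B M] [IsScalarTower B R M],
      DRing.HasTorDimLE B (d + 1) M → ∀ (N : ModuleCat.{u} R) (i : ℕ),
      Nonempty (((Tor (ModuleCat.{u} R) (d + i + 3)).obj (ModuleCat.of R M)).obj N ≅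
        ((Tor (ModuleCat.{u} R) (d + i + 1)).obj (ModuleCat.of R M)).obj N) := by
  induction d with
  | zero =>
    intro M _ _ _ _ hM N i
    simpa only [Nat.zero_add] using nonempty_iso_of_torDimLE_one g hg hsurj hker hM N i
  | succ d ih =>
    intro M _ _ _ _ hM N i
    let p : (M →₀ R) →ₗ[R] M := Finsupp.linearCombination R id
    have hp : Function.Surjective p := Finsupp.linearCombination_id_surjective R M
    have hex := LinearMap.exact_subtype_ker_map p
    have hK : DRing.HasTorDimLE B (d + 1) (LinearMap.ker p) :=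
      torDimLE_left (R := B) ((LinearMap.ker p).subtype.restrictScalars B) (p.restrictScalars B)
        (Submodule.injective_subtype _) hex hp (d + 1) (Nat.le_add_left 1 d) (torDimLE_finsupp g hg hsurj hker M) hM
    obtain ⟨e⟩ := ih (LinearMap.ker p) hK N i
    obtain ⟨a⟩ := nonempty_iso_shift (X := ↥(LinearMap.ker p)) (Y := M →₀ R) (Z := M) (LinearMap.ker p).subtype p (Submodule.injective_subtype _) hex hp N (d + i + 2)
    obtain ⟨b⟩ := nonempty_iso_shift (X := ↥(LinearMap.ker p)) (Y := M →₀ R) (Z := M) (LinearMap.ker p).subtype p (Submodule.injective_subtype _) hex hp N (d + i)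
    rw [show d + 1 + i + 3 = d + i + 2 + 2 by omega, show d + 1 + i + 1 = d + i + 2 by omega]
    exact ⟨a ≪≫ e ≪≫ b.symm⟩

/-- A flat `B`-module killed by a nonzerodivisor is zero. -/
theorem subsingleton_of_torDimLE_zero (hg : IsSMulRegular B g)
    (hker : RingHom.ker (algebraMap B R) = Ideal.span {g}) {M : Type u} [AddCommGroup M] [Module R M] [Module B M]
    [IsScalarTower B R M] (hM : DRing.HasTorDimLE B 0 M) : Subsingleton M := by
  haveI := (TorCI.torDimLE_zero_iff M).1 hM
  have h := Module.Flat.lTensor_preserves_injective_linearMap (M := M) (LinearMap.lsmul B B g) hg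
  refine subsingleton_of_forall_eq 0 fun x => ?_
  have h1 : (LinearMap.lsmul B B g).lTensor M (x ⊗ₜ[B] (1 : B)) = 0 := by
    rw [LinearMap.lTensor_tmul, LinearMap.lsmul_apply, TensorProduct.tmul_smul, TensorProduct.smul_tmul',
      ← algebraMap_smul R g x, algebraMap_g g hker, zero_smul, TensorProduct.zero_tmul]
  have h2 := congrArg (TensorProduct.rid B M) (h (h1.trans (map_zero _).symm))
  simpa using h2

end Groth.Agent.HyperTor
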