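import Groth.Agent.S7066
import Groth.Agent.S7131
import Groth.Agent.S6949
import Groth.Agent.TorCI.TDBaseChange
import Mathlib

/-!
Tor dimension over a smooth algebra of relative dimension `n` is at most tor dimension over the base plus `n`.
-/

set_option autoImplicit false
set_option linter.style.haveILetI false
set_option backward.isDefEq.respectTransparency false

universe u

open CategoryTheory Limits
open scoped TensorProduct

attribute [local instance] HasDerivedCategory.standard

noncomputable section

namespace Groth.Agent.HyperTor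

open Groth.Agent.DRingKP

variable {A B : Type u} [CommRing A] [CommRing B] [Algebra A B]

theorem flat_tensor (T : Type u) [CommRing T] [Algebra B T] [Module.Flat B T] [Algebra A T] [IsScalarTower A B T]
    (M : Type u) [AddCommGroup M] [Module B M] [Module A M] [IsScalarTower A B M] [Module.Flat A M] :
    Module.Flat A (T ⊗[B] M) := by
  refine Module.Flat.iff_lTensor_preserves_injective_linearMap.2 fun N N' _ _ _ _ f hf => ?_
  let f' : M ⊗[A] N →ₗ[B] M ⊗[A] N' := TensorProduct.AlgebraTensorModule.lTensor B M f
  have hf' : Function.Injective f' := Module.Flat.lTensor_preserves_injective_linearMap (M := M) f hf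
  have h2 := Module.Flat.lTensor_preserves_injective_linearMap (M := T) f' hf'
  have key : ∀ z, TensorProduct.AlgebraTensorModule.assoc A B B T M N' (f.lTensor (T ⊗[B] M) z) =
      f'.lTensor T (TensorProduct.AlgebraTensorModule.assoc A B B T M N z) := by
    intro z
    induction z with
    | zero => simp
    | add p q hp hq => simp [hp, hq]
    | tmul tm x =>
      induction tm with
      | zero => simp
      | add p q hp hq =>
        simp only [LinearMap.lTensor_tmul] at hp hq
        simp only [LinearMap.lTensor_tmul, TensorProduct.add_tmul, map_add, hp, hq]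
      | tmul t m => simp [f']
  intro a b hab
  refine (TensorProduct.AlgebraTensorModule.assoc A B B T M N).injective (h2 ?_)
  rw [← key, ← key, hab]

theorem torDimLE_tensor_step {T : Type u} [CommRing T] [Algebra B T] [Module.Flat B T] [Algebra A T]
    [IsScalarTower A B T] {X Y Z : Type u} [AddCommGroup X] [Module B X] [Module A X] [IsScalarTower A B X]
    [AddCommGroup Y] [Module B Y] [Module A Y] [IsScalarTower A B Y] [Module.Flat A (T ⊗[B] Y)]
    [AddCommGroup Z] [Module B Z] [Module A Z] [IsScalarTower A B Z] (f : X →ₗ[B] Y) (g : Y →ₗ[B] Z)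
    (hf : Function.Injective f) (hex : Function.Exact f g) (hg : Function.Surjective g) (d : ℕ)
    (h : DRing.HasTorDimLE A d (T ⊗[B] X)) : DRing.HasTorDimLE A (d + 1) (T ⊗[B] Z) := by
  refine (TorCI.torDimLE_succ_iff (R := A) ((f.baseChange T).restrictScalars A)
    ((g.baseChange T).restrictScalars A) ?_ ?_ ?_ d).2 h
  · exact Module.Flat.lTensor_preserves_injective_linearMap (M := T) f hf
  · exact lTensor_exact T hex hg
  · exact LinearMap.lTensor_surjective T hg

theorem torDimLE_tensor [Module.Flat A B] (T : Type u) [CommRing T] [Algebra B T] [Module.Flat B T] [Algebra A T]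
    [IsScalarTower A B T] : ∀ (d : ℕ) (M : Type u) [AddCommGroup M] [Module B M] [Module A M] [IsScalarTower A B M],
      DRing.HasTorDimLE A d M → DRing.HasTorDimLE A d (T ⊗[B] M) := by
  intro d
  induction d with
  | zero =>
    intro M _ _ _ _ h
    haveI := (TorCI.torDimLE_zero_iff M).1 h
    exact (TorCI.torDimLE_zero_iff _).2 (flat_tensor T M)
  | succ d ih =>
    intro M _ _ _ _ h
    let p : (M →₀ B) →ₗ[B] M := Finsupp.linearCombination B id
    have hp : Function.Surjective p := Finsupp.linearCombination_id_surjective B M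
    have hex := LinearMap.exact_subtype_ker_map p
    haveI : Module.Flat A (M →₀ B) := Module.Flat.trans A B _
    have hK : DRing.HasTorDimLE A d (LinearMap.ker p) :=
      (TorCI.torDimLE_succ_iff (R := A) (K := ↥(LinearMap.ker p)) (F := M →₀ B) (M := M)
        ((LinearMap.ker p).subtype.restrictScalars A) (p.restrictScalars A)
        (Submodule.injective_subtype _) hex hp d).1 h
    have hTK := ih (LinearMap.ker p) hK
    haveI : Module.Flat A (T ⊗[B] (M →₀ B)) := flat_tensor T (M →₀ B)
    exact torDimLE_tensor_step (X := ↥(LinearMap.ker p)) (Y := M →₀ B) (Z := M) (LinearMap.ker p).subtype p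
      (Submodule.injective_subtype _) hex hp d hTK

/-- Over an algebra étale over a polynomial ring in `n` variables. -/
theorem amp_of_etale {L : Type u} [CommRing L] [Algebra A L] (n m : ℕ) [Algebra (MvPolynomial (Fin n) A) L]
    [IsScalarTower A (MvPolynomial (Fin n) A) L] [Algebra.WeaklyEtale (MvPolynomial (Fin n) A) L]
    (M : Type u) [AddCommGroup M] [Module L M] [Module A M] [IsScalarTower A L M]
    (h : DRing.HasTorDimLE A m M) : DRing.HasTorAmplitudeIn L (-((m + n : ℕ) : ℤ)) 0 (Dual.inD L M) := by
  letI : Module (MvPolynomial (Fin n) A) M := Module.compHom M (algebraMap (MvPolynomial (Fin n) A) L)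
  haveI : IsScalarTower (MvPolynomial (Fin n) A) L M := IsScalarTower.of_algebraMap_smul fun _ _ => rfl
  haveI : IsScalarTower A (MvPolynomial (Fin n) A) M := IsScalarTower.of_algebraMap_smul fun a x => by
    show (algebraMap (MvPolynomial (Fin n) A) L (algebraMap A _ a)) • x = a • x
    rw [← IsScalarTower.algebraMap_apply, algebraMap_smul]
  have h1 := S7066.amp_mvPolynomial n m M ((DRingKP.hasTorDimLE_iff M m).1 h)
  let res := ModuleCat.restrictScalars.{u} (algebraMap (MvPolynomial (Fin n) A) L)
  let e : M ≃ₗ[MvPolynomial (Fin n) A] res.obj (ModuleCat.of L M) :=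
    { toFun := fun x => x
      map_add' := fun _ _ => rfl
      map_smul' := fun c x => rfl
      invFun := fun x => x
      left_inv := fun _ => rfl
      right_inv := fun _ => rfl }
  have h2 : DRing.HasTorDimLE (MvPolynomial (Fin n) A) (m + n) (res.obj (ModuleCat.of L M)) :=
    (DRingKP.hasTorDimLE_iff _ _).2 (PCMor.ampModule_of_equiv e h1)
  exact Groth.Agent.S7131.key (Algebra.WeaklyEtale.flat_lmul' (MvPolynomial (Fin n) A) L) (m + n) (ModuleCat.of L M) h2

/-- The extension of scalars of a module in degree zero. -/
theorem nonempty_bc_single (T : Type u) [CommRing T] [Algebra B T] (M : Type u) [AddCommGroup M] [Module B M] :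
    Nonempty ((ModuleCat.extendScalars.{u, u, u} (algebraMap B T)).obj (ModuleCat.of B M) ≅
      ModuleCat.of T (T ⊗[B] M)) := by
  let φ := algebraMap B T
  let F := ModuleCat.extendScalars.{u, u, u} φ
  let e₁ : (ModuleCat.restrictScalars.{u} φ).obj (ModuleCat.of T T) ≃ₗ[B] T :=
    { toFun := fun x => x
      map_add' := fun _ _ => rfl
      map_smul' := fun a x => (Algebra.smul_def a (show T from x)).symm
      invFun := fun x => x
      left_inv := fun _ => rfl
      right_inv := fun _ => rfl }
  let e₀ : ((ModuleCat.restrictScalars.{u} φ).obj (ModuleCat.of T T)) ⊗[B] M ≃ₗ[B] T ⊗[B] M :=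
    TensorProduct.congr e₁ (LinearEquiv.refl B M)
  let el : F.obj (ModuleCat.of B M) ≃ₗ[T] T ⊗[B] M :=
    { toFun := fun x => e₀ x
      map_add' := fun x y => e₀.map_add x y
      map_smul' := fun c x => by
        induction x using TensorProduct.induction_on with
        | zero =>
          exact (congrArg e₀ (smul_zero (A := F.obj (ModuleCat.of B M)) c)).trans (e₀.map_zero.trans
              ((congrArg (c • ·) e₀.map_zero).trans (smul_zero c)).symm)
        | tmul b y => rfl
        | add x y hx hy =>
          exact (congrArg e₀ (smul_add (A := F.obj (ModuleCat.of B M)) c x y)).trans ((e₀.map_add _ _).trans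
            ((congrArg₂ (· + ·) hx hy).trans
            ((smul_add _ _ _).symm.trans (congrArg (c • ·) (e₀.map_add x y).symm))))
      invFun := fun x => e₀.symm x
      left_inv := fun x => e₀.symm_apply_apply x
      right_inv := fun x => e₀.apply_symm_apply x }
  exact ⟨el.toModuleIso⟩

/-- Tor dimension over a smooth algebra of relative dimension `n`. -/
theorem torDimLE_of_smooth [Algebra.Smooth A B] (n : ℕ)
    (hn : ∀ p : PrimeSpectrum B, Module.rankAtStalk (Ω[B⁄A]) p = n) (m : ℕ) (M : Type u) [AddCommGroup M]
    [Module B M] [Module A M] [IsScalarTower A B M] (h : DRing.HasTorDimLE A m M) :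
    DRing.HasTorDimLE B (m + n) M := by
  classical
  obtain ⟨s, hs, hstd⟩ := Algebra.Smooth.exists_span_eq_top_isStandardSmooth A B
  obtain ⟨t, hts, ht⟩ := (Ideal.span_eq_top_iff_finite s).1 hs
  rw [hasTorDimLE_iff (A := B) M (m + n)]
  let f : Fin t.card → B := fun i => (t.equivFin.symm i : B)
  have hf : Ideal.span (Set.range f) = ⊤ := by
    rw [← top_le_iff, ← ht]
    refine Ideal.span_mono fun x hx => ⟨t.equivFin ⟨x, hx⟩, ?_⟩
    simp [f]
  let K : DRing.Cx B := (HomologicalComplex.single (ModuleCat.{u} B) (ComplexShape.up ℤ) 0).obj (ModuleCat.of B M)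
  refine amp_of_iso ((DerivedCategory.singleFunctorIsoCompQ (ModuleCat.{u} B) 0).app (ModuleCat.of B M)).symm
    (S6949.result f hf K (-((m + n : ℕ) : ℤ)) 0 fun i => ?_)
  let L := Localization.Away (f i)
  let F := ModuleCat.extendScalars.{u, u, u} (algebraMap B L)
  obtain ⟨e⟩ := nonempty_bc_single (B := B) L M
  haveI : Module.Flat B L := IsLocalization.flat L (Submonoid.powers (f i))
  haveI : Algebra.IsStandardSmooth A L := hstd _ (hts (Subtype.coe_prop _))
  haveI : Module.Flat A B := inferInstance
  have hL : DRing.HasTorAmplitudeIn L (-((m + n : ℕ) : ℤ)) 0 (Dual.inD L (L ⊗[B] M)) := by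
    rcases subsingleton_or_nontrivial L with hsub | hnt
    · haveI : Subsingleton (L ⊗[B] M) := Module.subsingleton L _
      exact amp_widen (by push_cast; lia) le_rfl ((amp_zero_iff_flat (A := L) (L ⊗[B] M)).2 inferInstance)
    haveI : Algebra.IsStandardSmoothOfRelativeDimension n A L := by
      rw [Algebra.IsStandardSmoothOfRelativeDimension.iff_of_isStandardSmooth, ← Module.finrank_eq_rank]
      obtain ⟨P, hP⟩ := Ideal.exists_maximal L
      let P' : PrimeSpectrum L := ⟨P, hP.isPrime⟩
      have h1 : Module.rankAtStalk (Ω[L⁄A]) P' = n := by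
        rw [Module.rankAtStalk_isBaseChange
          ((isLocalizedModule_iff_isBaseChange (Submonoid.powers (f i)) L _).1
            (KaehlerDifferential.isLocalizedModule_map (R := A) (S := B) (T := L) (Submonoid.powers (f i)))) P']
        exact hn _
      rw [Module.rankAtStalk_eq_finrank_of_free, Pi.natCast_apply] at h1
      exact_mod_cast h1
    obtain ⟨γ, hγ⟩ := Algebra.IsStandardSmoothOfRelativeDimension.exists_etale_mvPolynomial n A L
    letI : Algebra (MvPolynomial (Fin n) A) L := γ.toRingHom.toAlgebra
    haveI : IsScalarTower A (MvPolynomial (Fin n) A) L := IsScalarTower.of_algebraMap_eq fun a => (γ.commutes a).symm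
    haveI : Algebra.Etale (MvPolynomial (Fin n) A) L := hγ
    exact amp_of_etale n m (L ⊗[B] M) (torDimLE_tensor L m M h)
  refine amp_of_iso ?_ hL
  exact (DerivedCategory.singleFunctorIsoCompQ (ModuleCat.{u} L) 0).app _ ≪≫
    DerivedCategory.Q.mapIso ((HomologicalComplex.single _ (ComplexShape.up ℤ) 0).mapIso e.symm ≪≫
      ((HomologicalComplex.singleMapHomologicalComplex F (ComplexShape.up ℤ) 0).app (ModuleCat.of B M)).symm)

end Groth.Agent.HyperTor
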